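import Cfsg.Agent.FS.N.Red
import Cfsg.Agent.FS.N.R.Main
import Cfsg.Agent.FS.N.R.FP
import Cfsg.Agent.FS.N.R.PG
import Cfsg.Agent.FS.N.R.CE
import Cfsg.Agent.FS.N.R.UT
import Cfsg.Agent.FS.N.R.AG
import Cfsg.Agent.FS.N.M.Low

/-!
# S5288 from the levels (helper49, project FS)
-/

set_option autoImplicit false

namespace Cfsg.Agent.FS.N.A

open Cfsg Cfsg.Agent.FS.Real Cfsg.Agent.FS.N.M

universe u

theorem boxR3 : BoxR3 dU34 := R.boxR3_of R.boxUT R.boxCE R.boxPG R.boxAU R.boxAG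

/-- **S5288 from the levels `3` to `9`.** -/
theorem final (h3 : Lev 3 (Ents3.map Prod.fst)) (h4 : Lev 4 (Ents4.map Prod.fst)) (h5 : Lev 5 (Ents5.map Prod.fst))
    (h6 : Lev 6 (Ents6.map Prod.fst)) (h7 : Lev 7 (Ents7.map Prod.fst)) {L8 L9 : List Ent} (h8 : Lev 8 L8)
    (h9 : Lev 9 L9) {Ω : Type u} [Group Ω] {S : Subgroup Ω} [Finite S] (hS : IsPGroup 2 S) (F : FusionSystem S)
    (hF : F.IsSaturated 2) (hcard : Nat.card S ≤ 2 ^ 9) : F.IsRealizable 2 :=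
  final_of R.boxFP D.boxD2 boxR3 (low h3 h4 h5 h6 h7) (base_of_lev fun n hn => by
    interval_cases n
    exacts [⟨_, G.lev0⟩, ⟨_, G.lev1⟩, ⟨_, G.lev2⟩, ⟨_, h3⟩, ⟨_, h4⟩, ⟨_, h5⟩, ⟨_, h6⟩, ⟨_, h7⟩, ⟨_, h8⟩, ⟨_, h9⟩])
    hS F hF hcard

end Cfsg.Agent.FS.N.A
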