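import Cfsg.Agent.FS.N.G.Old
import Cfsg.Agent.FS.N.G.Q4
import Cfsg.Agent.FS.N.C2.Main

/-!
# S5288: the lists of the groups (helper49, project FS)
-/

set_option autoImplicit false

namespace Cfsg.Agent.FS.N.A

open Cfsg Cfsg.FusionSystem Cfsg.Agent.FS.Th Cfsg.Agent.FS.N.G
open Pc (Base)

/-- the groups of order `2 ^ n` which carry a system are in the list -/
def Hl (n : ℕ) (gl : List ℕ) : Prop :=
  ∀ (A : Type) [Group A] [Finite A], Nat.card A = 2 ^ n → ∀ F : Sys A, Hy2 F → ∃ R ∈ gl, ∃ y : ℕ → A, Pc16 n R y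

/-- the lists of the levels `3` to `8` -/
noncomputable def gl (n : ℕ) : List ℕ := (Sw.S n).flatten.map fun T => w16 n T.rel

theorem hl_old {n : ℕ} (h3 : 3 ≤ n) (h8 : n ≤ 8) : Hl n (gl n) := fun A _ _ hA F hF =>
  lst_old C2.boxSq h3 h8 A hA trivial F hF.toHy0

theorem levI2 : LevI 2 [] := fun A _ _ hA F hF => by
  obtain ⟨_, h, -⟩ := lev2 A hA F hF
  exact absurd h List.not_mem_nil

theorem Lev.mono {n : ℕ} {L L' : List Ent} (h : Lev n L) (h1 : ∀ p ∈ L, p ∈ L') : Lev n L' := fun A _ _ hA F hF =>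
  (h A hA F hF).imp fun p hp => ⟨h1 p hp.1, hp.2⟩

section

variable {A : Type} [Group A]

theorem Lz.central {k : ℕ} {z : A} (h : Lz k z) (g : A) : z * g = g * z := by
  obtain ⟨j, -, h1, h2⟩ := h
  exact commutatorElement_eq_one_iff_mul_comm.1 (Subgroup.mem_bot.1
    (h2.le (Subgroup.commutator_mem_commutator h1 (Subgroup.mem_top g))))

theorem exists_lz [Finite A] (hA : IsPGroup 2 A) (h : ¬ Cl2 A) : ∃ z : A, z * z = 1 ∧ z ≠ 1 ∧ Lz 2 z := by
  classical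
  have : Fact (Nat.Prime 2) := ⟨Nat.prime_two⟩
  have h1 : ∃ n, (⊤ : Subgroup A).lowerCentralSeries n = ⊥ := Subgroup.nilpotent_iff_lowerCentralSeries.1 hA.isNilpotent
  have h2 : 2 < Nat.find h1 := by
    by_contra h2
    have h3 : (⊤ : Subgroup A).lowerCentralSeries 2 ≤ ⊥ :=
      (Subgroup.lowerCentralSeries_antitone _ (not_lt.1 h2)).trans (Nat.find_spec h1).le
    refine h fun a b c => commutatorElement_eq_one_iff_mul_comm.1 (Subgroup.mem_bot.1 (h3 ?_))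
    exact Subgroup.commutator_mem_commutator
      (Subgroup.commutator_mem_commutator (Subgroup.mem_top a) (Subgroup.mem_top b)) (Subgroup.mem_top c)
  obtain ⟨k, hk⟩ : ∃ k, Nat.find h1 = k + 1 := ⟨Nat.find h1 - 1, by omega⟩
  have h3 := Nat.find_min h1 (show k < Nat.find h1 by omega)
  have h4 : 2 ∣ Nat.card ((⊤ : Subgroup A).lowerCentralSeries k) := by
    obtain ⟨m, hm⟩ := IsPGroup.iff_card.1 (hA.to_subgroup ((⊤ : Subgroup A).lowerCentralSeries k))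
    rw [hm]
    refine dvd_pow_self 2 fun h4 => h3 (Subgroup.card_eq_one.1 ?_)
    rw [hm, h4, pow_zero]
  obtain ⟨z, hz⟩ := exists_prime_orderOf_dvd_card' 2 h4
  rw [← Subgroup.orderOf_coe] at hz
  refine ⟨z, by rw [← pow_two, ← hz, pow_orderOf_eq_one], fun h5 => ?_, k, by omega, z.2, hk ▸ Nat.find_spec h1⟩
  rw [h5, orderOf_one] at hz
  exact absurd hz (by decide)

theorem Lz.aut {k : ℕ} {z : A} (h : Lz k z) (θ : MulAut A) : Lz k (θ z) := by
  obtain ⟨j, h0, h1, h2⟩ := h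
  refine ⟨j, h0, ?_, h2⟩
  have h3 := Subgroup.characteristic_iff_map_le.1
    (inferInstance : ((⊤ : Subgroup A).lowerCentralSeries j).Characteristic) θ
  exact h3 ⟨z, h1, rfl⟩

end

/-- **The list of the groups of order `2 ^ 9`.** -/
theorem hl9 {LL SS : List (List Base)} (h : Has9 LL) (hs : ∀ l ∈ LL, Swp 8 SS l) (hw : W16 SS) :
    Hl 9 (C2.Mod.R1 :: C2.UT.R2 :: rels SS) := by
  intro A _ _ hA F hF
  by_cases hc : Cl2 A
  · rcases C2.boxC2 A hA hc F hF with h1 | h1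
    · exact ⟨_, List.mem_cons_self, h1⟩
    · exact ⟨_, List.mem_cons_of_mem _ List.mem_cons_self, h1⟩
  have hp : IsPGroup 2 A := IsPGroup.of_card hA
  obtain ⟨w, hw'⟩ := exists_lz hp hc
  obtain ⟨z, ⟨z2, z1, hz⟩, P, -, hP⟩ := hF.toHy0.exists_locZ_char hp (X := {w | w * w = 1 ∧ w ≠ 1 ∧ Lz 2 w})
    (fun w hw g => (Lz.central hw.2.2 g).symm) ⟨w, hw', hw'.2.1⟩ fun θ w hw =>
      ⟨by rw [← map_mul, hw.1, map_one], fun h1 => hw.2.1 (θ.injective (h1.trans (map_one θ).symm)), Lz.aut hw.2.2 θ⟩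
  rcases h A hA z z2 z1 hz with ⟨c, h1⟩ | ⟨l, hl, T, hT, h1⟩
  · exact (boxQ4 A hA hc F hF.toHy0 z c z2 (Lz.central hz) h1).elim
  · obtain ⟨s, h2, U, hU, y, hy⟩ := hs l hl T hT A F z P hF.toHy0 hP h1
    obtain ⟨h3, h4⟩ := hw s h2 U hU
    obtain ⟨h5, h6⟩ := hy.isPc h3 (by omega)
    rw [h4] at h5
    exact ⟨_, List.mem_cons_of_mem _ (List.mem_cons_of_mem _
      (List.mem_map.2 ⟨U, List.mem_flatten.2 ⟨s, h2, hU⟩, rfl⟩)), y, hA, h5, h6⟩

end Cfsg.Agent.FS.N.A
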