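import Cfsg.Agent.FS.N.Defs

/-!
# The invariants `inv4` of the group of a presentation (helper49, project FS)
-/

set_option autoImplicit false

namespace Cfsg.Agent.FS.N.A

open Cfsg.Agent.FS.Real
open Pc (frc frc_eq)

/-- the sum of `f a` over `a < N` -/
noncomputable def smB (N : ℕ) (f : ℕ → ℕ) : ℕ := Nat.rec 0 (fun k r => Nat.add (f k) r) N

theorem smB_eq (f : ℕ → ℕ) : ∀ N, smB N f = ∑ a ∈ Finset.range N, f a
  | 0 => rfl
  | N + 1 => by
    rw [Finset.sum_range_succ, ← smB_eq f N]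
    exact Nat.add_comm _ _

/-- `1` or `0` -/
noncomputable def ind (b : Bool) : ℕ := Bool.rec 0 1 b

/-- the number of commuting pairs among the numbers with the property `p` -/
noncomputable def prs (D : PcD) (p : ℕ → Bool) : ℕ :=
  smB D.N fun a => Bool.rec 0 (frc a fun a => smB D.N fun b => Bool.rec 0
    (frc b fun b => ind (Nat.beq (D.mul a b) (D.mul b a))) (p b)) (p a)

/-- the invariants -/
noncomputable def inv (D : PcD) (q : ℕ × ℕ × ℕ × ℕ) : Bool :=
  Nat.beq (smB D.N fun a => ind (Nat.beq (D.mul a a) 0)) q.1 &&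
    (Nat.beq (smB D.N fun a => frc (D.mul a a) fun b => ind (Nat.beq (D.mul b b) 0)) q.2.1 &&
      (Nat.beq (prs D fun a => Nat.beq (D.mul a a) 0) q.2.2.2 && Nat.beq (prs D fun _ => true) q.2.2.1))

variable {A : Type} [Group A] {D : PcD} {x : ℕ → A}

theorem sum_eq [Fintype A] (H : Gen D ⊤ x) (f : A → ℕ) : ∑ g, f g = smB D.N fun a => f (el x D.n a) := by
  rw [smB_eq]
  refine (Finset.sum_bij (fun a _ => el x D.n a) (fun _ _ => Finset.mem_univ _)
    (fun a ha b hb h => H.inj (Finset.mem_range.1 ha) (Finset.mem_range.1 hb) h) (fun g _ => ?_) fun _ _ => rfl).symm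
  obtain ⟨a, ha, h⟩ := (H.mem g).1 (Subgroup.mem_top g)
  exact ⟨a, Finset.mem_range.2 ha, h⟩

theorem smB_congr {N : ℕ} {f g : ℕ → ℕ} (h : ∀ a, a < N → f a = g a) : smB N f = smB N g := by
  rw [smB_eq, smB_eq]
  exact Finset.sum_congr rfl fun a ha => h a (Finset.mem_range.1 ha)

theorem card_eq [Finite A] (H : Gen D ⊤ x) (P : A → Prop) {p : ℕ → Bool} (h : ∀ a, a < D.N → (P (el x D.n a) ↔ p a = true)) :
    Nat.card {g // P g} = smB D.N fun a => ind (p a) := by
  classical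
  have := Fintype.ofFinite A
  rw [Nat.card_eq_fintype_card, Fintype.card_subtype, Finset.card_filter, sum_eq H]
  refine smB_congr fun a ha => ?_
  cases h1 : p a
  · exact if_neg fun h2 => by rw [(h a ha).1 h2] at h1; cases h1
  · exact if_pos ((h a ha).2 h1)

theorem eq_iff (H : Gen D ⊤ x) {a b : ℕ} (ha : a < D.N) (hb : b < D.N) :
    el x D.n a = el x D.n b ↔ Nat.beq a b = true :=
  ⟨fun h => by rw [H.inj ha hb h, Nat.beq_refl], fun h => by rw [Nat.eq_of_beq_eq_true h]⟩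

theorem sq_iff (H : Gen D ⊤ x) {a : ℕ} (ha : a < D.N) :
    el x D.n a * el x D.n a = 1 ↔ Nat.beq (D.mul a a) 0 = true := by
  rw [H.mul ha, ← eq_iff H (D.mul_lt ha a) D.N_pos, el_nil]

theorem prs_eq [Finite A] (H : Gen D ⊤ x) (P : A → Prop) {p : ℕ → Bool} (h : ∀ a, a < D.N → (P (el x D.n a) ↔ p a = true)) :
    Nat.card {q : A × A // P q.1 ∧ P q.2 ∧ q.1 * q.2 = q.2 * q.1} = prs D p := by
  classical
  have := Fintype.ofFinite A
  rw [Nat.card_congr (Equiv.subtypeProdEquivSigmaSubtype fun a b : A => P a ∧ P b ∧ a * b = b * a), Nat.card_sigma,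
    sum_eq H]
  refine smB_congr fun a ha => ?_
  rw [card_eq H _ (p := fun b => p a && (p b && Nat.beq (D.mul a b) (D.mul b a))) fun b hb => by
    rw [h a ha, h b hb, H.mul ha, H.mul hb, eq_iff H (D.mul_lt ha b) (D.mul_lt hb a), Bool.and_eq_true, Bool.and_eq_true]]
  cases p a
  · rw [smB_eq]
    exact Finset.sum_eq_zero fun _ _ => rfl
  · rw [frc_eq]
    refine smB_congr fun b _ => ?_
    rw [frc_eq]
    cases p b <;> rfl

theorem inv4_eq [Finite A] (H : Gen D ⊤ x) {q : ℕ × ℕ × ℕ × ℕ} (h : inv D q = true) : inv4 A = q := by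
  unfold inv at h
  rw [Bool.and_eq_true, Bool.and_eq_true, Bool.and_eq_true] at h
  obtain ⟨h1, h2, h3, h4⟩ := h
  refine Prod.ext ?_ (Prod.ext ?_ (Prod.ext ?_ ?_))
  · exact (card_eq H _ fun a ha => sq_iff H ha).trans (Nat.eq_of_beq_eq_true h1)
  · refine (card_eq H (fun g => g * g * (g * g) = 1) fun a ha => by
      rw [H.mul ha, sq_iff H (D.mul_lt ha a)]).trans (Eq.trans (smB_congr fun a _ => ?_) (Nat.eq_of_beq_eq_true h2))
    rw [frc_eq]
  · refine Eq.trans (Nat.card_congr (Equiv.subtypeEquivRight fun q => ?_))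
      ((prs_eq H (fun _ => True) fun _ _ => ⟨fun _ => rfl, fun _ => trivial⟩).trans (Nat.eq_of_beq_eq_true h4))
    simp
  · exact (prs_eq H (fun g => g * g = 1) fun a ha => sq_iff H ha).trans (Nat.eq_of_beq_eq_true h3)

/-- the invariants of the presentation are in the list -/
def InI (I : List (ℕ × ℕ × ℕ × ℕ)) (D : PcD) : Prop := ∃ q ∈ I, inv D q = true

theorem levI_of {n : ℕ} {L : List Ent} {I : List (ℕ × ℕ × ℕ × ℕ)} (h : Lev n L) (hI : ∀ p ∈ L, InI I p.D) :
    LevI n I := by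
  intro A _ _ hA F hF
  obtain ⟨p, hp, x, hx, -⟩ := h A hA F hF
  obtain ⟨q, hq, h1⟩ := hI p hp
  rwa [inv4_eq hx h1]

end Cfsg.Agent.FS.N.A
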